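import Groth.Agent.Lib.SigmaLin.Basic
import Mathlib.LinearAlgebra.TensorProduct.Basic
import Mathlib.RingTheory.TensorProduct.Free
import Mathlib.RingTheory.Flat.Basic
import Mathlib.FieldTheory.IsAlgClosed.Basic
import Mathlib.FieldTheory.Finite.Basic

/-!
# Fixed vectors of p-semilinear maps
-/

universe u

open TensorProduct Groth.Agent.SigmaLinLib

namespace Groth.Agent.SigmaFix

variable {k : Type u} [Field k] [IsAlgClosed k] (p : ℕ) [Fact p.Prime] [CharP k p]
  {V : Type u} [AddCommGroup V] [Module k V] [FiniteDimensional k V]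

theorem exists_fixed_family (F : V →+ V) (hF : ∀ (c : k) (v : V), F (c • v) = c ^ p • F v) :
    ∃ (d N : ℕ) (b : Fin d → V), d ≤ Module.finrank k V ∧ LinearIndependent k b ∧ (∀ i, F (b i) = b i) ∧
      ∀ v, (⇑F)^[N] v ∈ Submodule.span k (Set.range b) := by
  let T := ofQLinear (r := 1) (p := p) F (fun c v => by rw [pow_one]; exact hF c v)
  obtain ⟨B, hB⟩ := exists_basis_fixed (Tss T) (span_range_Tss T)
    (cond2_frobenius k p 1 one_pos) (cond3_frobenius k p 1 one_pos)
  obtain ⟨N, -, hinf⟩ := W_stab T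
  let S := ⨅ n, W T n
  refine ⟨_, N, fun i => (B i : V), Submodule.finrank_le S,
    B.linearIndependent.map' S.subtype (Submodule.ker_subtype _),
    fun i => congrArg Subtype.val (hB i), fun v => ?_⟩
  have hv : (⇑T)^[N] v ∈ S := by
    show _ ∈ ⨅ n, W T n
    rw [hinf]
    exact Submodule.subset_span ⟨v, rfl⟩
  have hspan : (⟨_, hv⟩ : S) ∈ Submodule.span k (Set.range B) := by rw [B.span_eq]; trivial
  have := Submodule.mem_map_of_mem (f := S.subtype) hspan
  rw [Submodule.map_span, ← Set.range_comp] at this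
  exact this

theorem sub_surjective' (F : V →+ V) (hF : ∀ (c : k) (v : V), F (c • v) = c ^ p • F v) :
    Function.Surjective fun v => F v - v := by
  intro v
  let T := ofQLinear (r := 1) (p := p) F (fun c v => by rw [pow_one]; exact hF c v)
  obtain ⟨y, hy⟩ := Groth.Agent.SigmaLinLib.sub_surjective T
    (cond2_frobenius k p 1 one_pos) (cond3_frobenius k p 1 one_pos) (-v)
  refine ⟨y, ?_⟩
  have hy' : y - F y = -v := hy
  show F y - y = v
  rw [← neg_sub, hy', neg_neg]

theorem coord_pow_eq {k' : Type u} [Field k'] [Algebra k k'] {M : Type u} [AddCommGroup M] [Module k' M]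
    {d : ℕ} (b : Fin d → M) (hb : LinearIndependent k' b) (G : M →+ M)
    (hG : ∀ (c : k') i, G (c • b i) = c ^ p • b i) {c : Fin d → k'}
    (h : G (∑ i, c i • b i) = ∑ i, c i • b i) (i : Fin d) : c i ^ p = c i := by
  rw [map_sum] at h
  simp only [hG] at h
  exact sub_eq_zero.mp (Fintype.linearIndependent_iff.mp hb (fun i => c i ^ p - c i)
    (by simp [sub_smul, Finset.sum_sub_distrib, h]) i)

theorem finite_roots (K : Type u) [Field K] : {c : K | c ^ p = c}.Finite ∧
    Nat.card {c : K | c ^ p = c} ≤ p := by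
  classical
  have hp : 1 < p := (Fact.out : p.Prime).one_lt
  let P : Polynomial K := Polynomial.X ^ p - Polynomial.X
  have hP : P ≠ 0 := FiniteField.X_pow_card_sub_X_ne_zero K hp
  have hsub : {c : K | c ^ p = c} ⊆ ↑P.roots.toFinset := fun c hc => by
    simp only [Finset.mem_coe, Multiset.mem_toFinset, Polynomial.mem_roots', ne_eq, hP, not_false_iff,
      true_and]
    simp [P, Polynomial.IsRoot, show c ^ p = c from hc]
  refine ⟨P.roots.toFinset.finite_toSet.subset hsub, ?_⟩
  refine (Nat.card_mono P.roots.toFinset.finite_toSet hsub).trans ?_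
  rw [Nat.card_coe_set_eq, Set.ncard_coe_finset]
  refine (Multiset.toFinset_card_le _).trans ((P.card_roots').trans ?_)
  rw [FiniteField.X_pow_card_sub_X_natDegree_eq K hp]

theorem finite_fixed (F : V →+ V) (hF : ∀ (c : k) (v : V), F (c • v) = c ^ p • F v) :
    Set.Finite {v : V | F v = v} ∧ Nat.card {v : V | F v = v} ≤ p ^ Module.finrank k V := by
  obtain ⟨d, N, b, hd, hli, hb, hmem⟩ := exists_fixed_family p F hF
  obtain ⟨hfin, hcard⟩ := finite_roots p k
  haveI := hfin.to_subtype
  let ψ : (Fin d → {c : k | c ^ p = c}) → V := fun c => ∑ i, (c i : k) • b i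
  have hsub : {v : V | F v = v} ⊆ Set.range ψ := fun v hv => by
    obtain ⟨c, hc⟩ := (Submodule.mem_span_range_iff_exists_fun k).mp
      ((Function.iterate_fixed (f := ⇑F) hv N) ▸ hmem v)
    have h1 : F (∑ i, c i • b i) = ∑ i, c i • b i := by rw [hc]; exact hv
    have h2 : ∀ i, c i ^ p = c i :=
      coord_pow_eq (k := k) (k' := k) p b hli F (fun a i => by rw [hF, hb]) h1
    exact ⟨fun i => ⟨c i, h2 i⟩, hc⟩
  have hfr : (Set.range ψ).Finite := Set.finite_range _
  refine ⟨hfr.subset hsub, (Nat.card_mono hfr hsub).trans ((Finite.card_range_le ψ).trans ?_)⟩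
  rw [Nat.card_fun, Nat.card_fin]
  exact (Nat.pow_le_pow_left hcard _).trans (Nat.pow_le_pow_right (Fact.out : p.Prime).pos hd)

theorem fixed_baseChange {k' : Type u} [Field k'] [Algebra k k'] (F : V →+ V)
    (hF : ∀ (c : k) (v : V), F (c • v) = c ^ p • F v) (F' : k' ⊗[k] V →+ k' ⊗[k] V)
    (hF' : ∀ (c : k') (v : V), F' (c ⊗ₜ[k] v) = (c ^ p) ⊗ₜ[k] F v) :
    Set.BijOn (fun v : V => (1 : k') ⊗ₜ[k] v) {v : V | F v = v} {w : k' ⊗[k] V | F' w = w} := by
  haveI : CharP k' p := charP_of_injective_algebraMap (algebraMap k k').injective p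
  refine ⟨fun v hv => ?_, fun v _ v' _ h => ?_, fun w hw => ?_⟩
  · show F' ((1 : k') ⊗ₜ[k] v) = _
    rw [hF', one_pow, show F v = v from hv]
  · refine (Module.Free.chooseBasis k V).ext_elem fun i => (algebraMap k k').injective ?_
    have := congrArg (fun x => (Algebra.TensorProduct.basis k' (Module.Free.chooseBasis k V)).repr x i) h
    simpa [Algebra.TensorProduct.basis_repr_tmul, Algebra.algebraMap_eq_smul_one] using this
  obtain ⟨d, N, b, -, hli, hb, hmem⟩ := exists_fixed_family p F hF
  let b' : Fin d → k' ⊗[k] V := fun i => (1 : k') ⊗ₜ[k] b i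
  have hli' : LinearIndependent k' b' := by
    let s : Set V := hli.linearIndepOn_id.extend (Set.subset_univ _)
    let B : Module.Basis s k V := Module.Basis.extend hli.linearIndepOn_id
    let e : Fin d → s := fun i => ⟨b i, hli.linearIndepOn_id.subset_extend _ (Set.mem_range_self i)⟩
    have he : Function.Injective e := fun i j hij => hli.injective (congrArg Subtype.val hij)
    have h1 := (Algebra.TensorProduct.basis k' B).linearIndependent.comp e he
    have h2 : (Algebra.TensorProduct.basis k' B) ∘ e = b' := by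
      funext i
      rw [Function.comp_apply, Algebra.TensorProduct.basis_apply]
      exact congrArg (fun x => (1 : k') ⊗ₜ[k] x)
        (congrFun (Module.Basis.coe_extend hli.linearIndepOn_id) (e i))
    rwa [h2] at h1
  have hit : ∀ (m : ℕ) (x : k' ⊗[k] V), x ∈ Submodule.span k' (Set.range fun v : V => (1 : k') ⊗ₜ[k] ((⇑F)^[m] v)) →
      F' x ∈ Submodule.span k' (Set.range fun v : V => (1 : k') ⊗ₜ[k] ((⇑F)^[m + 1] v)) := by
    intro m x hx
    obtain ⟨c, rfl⟩ := (Finsupp.mem_span_range_iff_exists_finsupp).mp hx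
    rw [Finsupp.sum, map_sum]
    refine Submodule.sum_mem _ fun v _ => ?_
    have e : F' (c v • (1 : k') ⊗ₜ[k] ((⇑F)^[m] v)) = (c v ^ p) • (1 : k') ⊗ₜ[k] ((⇑F)^[m + 1] v) := by
      rw [TensorProduct.smul_tmul', smul_eq_mul, mul_one, hF', TensorProduct.smul_tmul', smul_eq_mul, mul_one,
        Function.iterate_succ_apply']
    rw [e]
    exact Submodule.smul_mem _ _ (Submodule.subset_span ⟨v, rfl⟩)
  have hw' : ∀ m, w ∈ Submodule.span k' (Set.range fun v : V => (1 : k') ⊗ₜ[k] ((⇑F)^[m] v)) := by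
    intro m
    induction m with
    | zero =>
      clear hw
      induction w using TensorProduct.induction_on with
      | zero => exact zero_mem _
      | tmul a v =>
        rw [show a ⊗ₜ[k] v = a • ((1 : k') ⊗ₜ[k] v) by rw [TensorProduct.smul_tmul', smul_eq_mul, mul_one]]
        exact Submodule.smul_mem _ _ (Submodule.subset_span ⟨v, rfl⟩)
      | add x y hx hy => exact add_mem hx hy
    | succ m ih => exact (show F' w = w from hw) ▸ hit m w ih
  have hwb : w ∈ Submodule.span k' (Set.range b') := by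
    refine (Submodule.span_le.mpr ?_) (hw' N)
    rintro _ ⟨v, rfl⟩
    obtain ⟨c, hc⟩ := (Submodule.mem_span_range_iff_exists_fun k).mp (hmem v)
    show (1 : k') ⊗ₜ[k] ((⇑F)^[N] v) ∈ _
    rw [← hc, TensorProduct.tmul_sum]
    refine Submodule.sum_mem _ fun i _ => ?_
    rw [TensorProduct.tmul_smul, ← algebraMap_smul k' (c i)]
    exact Submodule.smul_mem _ _ (Submodule.subset_span ⟨i, rfl⟩)
  obtain ⟨c, hc⟩ := (Submodule.mem_span_range_iff_exists_fun k').mp hwb
  have hcp : ∀ i, c i ^ p = c i := fun i => coord_pow_eq (k := k) p b' hli' F' (fun a i => by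
    show F' (a • ((1 : k') ⊗ₜ[k] b i)) = a ^ p • ((1 : k') ⊗ₜ[k] b i)
    rw [TensorProduct.smul_tmul', smul_eq_mul, mul_one, hF', hb, TensorProduct.smul_tmul', smul_eq_mul,
      mul_one]) (by rw [hc]; exact hw) i
  have hprime : ∀ i, ∃ a : k, a ^ p = a ∧ algebraMap k k' a = c i := fun i => by
    obtain ⟨n, hn⟩ := (mem_bot_iff_intCast p k' (x := c i)).mp
      ((Subfield.mem_bot_iff_pow_eq_self (F := k') (p := p)).mpr (hcp i))
    refine ⟨(n : k), ?_, by simpa using hn⟩
    apply (algebraMap k k').injective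
    simp only [map_pow, map_intCast, hn, hcp]
  choose a ha hac using hprime
  refine ⟨∑ i, a i • b i, ?_, ?_⟩
  · show F (∑ i, a i • b i) = _
    rw [map_sum]
    exact Finset.sum_congr rfl fun i _ => by rw [hF, hb, ha]
  · show (1 : k') ⊗ₜ[k] (∑ i, a i • b i) = w
    rw [← hc, TensorProduct.tmul_sum]
    refine Finset.sum_congr rfl fun i _ => ?_
    rw [TensorProduct.tmul_smul, ← algebraMap_smul k' (a i), hac]

end Groth.Agent.SigmaFix
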